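import Cfsg.Agent.Lib.PermComp.Conway.MHS
import Cfsg.Agent.Lib.PermComp.OutP.HSo.Thm
import Cfsg.Agent.Lib.HS.Graph
import Cfsg.Agent.Lib.HSGraph.Card

/-!
# The group `HS` of the definitions is the group `HH` of the explicit graph on 100 vertices
-/

set_option autoImplicit false
set_option maxRecDepth 100000

namespace Cfsg.Agent.Lib.HSRec.Model

open Cfsg Cfsg.Agent.Lib.PermComp Cfsg.Agent.Lib.PermComp.OutP Cfsg.Agent.Lib.PermComp.Conway
  Cfsg.Agent.Lib.PermComp.Conway.MHS Cfsg.Agent.Lib.HS.Graph Cfsg.Agent.Lib.HS.Simple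
open Cfsg.Agent.Lib.PermComp.Kron (rangeAll rangeAll_spec)

/-- A subgroup of index two equals a simple subgroup of the same order. -/
theorem eq_of_index_two {A : Type*} [Group A] [Finite A] {X Y : Subgroup A}
    (hX : 2 * Nat.card X = Nat.card A) (hXY : Nat.card X = Nat.card Y) (hs : IsSimpleGroup Y)
    (h2 : 2 < Nat.card Y) : X = Y := by
  have hi : X.index = 2 := by
    have h := X.card_mul_index
    have hpos : 0 < Nat.card X := Nat.card_pos
    nlinarith
  have hn : X.Normal := Subgroup.normal_of_index_eq_two hi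
  have hz : (X.subgroupOf Y).Normal := Subgroup.normal_subgroupOf
  rcases hs.eq_bot_or_eq_top_of_normal _ hz with h | h
  · exfalso
    have h3 : X.relIndex Y ∣ X.index := Subgroup.relIndex_dvd_index_of_normal X Y
    have h4 : X.relIndex Y = Nat.card Y := by
      rw [Subgroup.relIndex, h, Subgroup.index_bot]
    rw [h4, hi] at h3
    exact absurd (Nat.le_of_dvd (by norm_num) h3) (by omega)
  · have hle : Y ≤ X := Subgroup.subgroupOf_eq_top.1 h
    exact (Subgroup.eq_of_le_of_card_ge hle hXY.le).symm

/-- The code of the bijection to the standard numbering. -/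
def piC : ℕ := 125878239137504041731905257768421787072077820804395765028599201455144857773311551103279012662434439122381582513480436430250555738718633415343724506520047581166077683201263907129951575553989947832325357410356736

theorem piC_valid : Simple.validB 100 7 127 Cfsg.Agent.Lib.HSGraph.Card.idc100 piC = true := by
  decide +kernel

/-- Equality of booleans. -/
def bEq (a b : Bool) : Bool := cond a b (cond b false true)

theorem bEq_iff {a b : Bool} (h : bEq a b = true) : a = b := by
  cases a <;> cases b <;> simp_all [bEq]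

/-- The table `g` preserves the graph transported by the bijection. -/
noncomputable def chk (g : ℕ) : Bool :=
  rangeAll (fun x => rangeAll (fun y =>
    bEq (adjB (Core.app 7 127 piC (HSo.F g x)) (Core.app 7 127 piC (HSo.F g y)))
      (adjB (Core.app 7 127 piC x) (Core.app 7 127 piC y))) 0 100) 0 100

theorem chk52 : chk 52 = true := by decide +kernel

theorem chk53 : chk 53 = true := by decide +kernel

/-- The bijection. -/
theorem exists_sigma : ∃ σ : Equiv.Perm (Fin 100), ∀ x : Fin 100, Core.app 7 127 piC x.val = (σ x).val :=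
  Simple.exists_rep_of_valid (e := Equiv.refl (Fin 100)) (by norm_num)
    Cfsg.Agent.Lib.HSGraph.Card.idc100_ok piC_valid

/-- Elements of the table are automorphisms after transport. -/
theorem conj_mem_autS {σ : Equiv.Perm (Fin 100)}
    (hσ : ∀ x : Fin 100, Core.app 7 127 piC x.val = (σ x).val) {g : ℕ} (hg : chk g = true)
    {e : Equiv.Perm (Fin 100)} (he : Rp (HSo.F g) e) : σ * e * σ⁻¹ ∈ autS := by
  intro u v
  obtain ⟨x, rfl⟩ := σ.surjective u
  obtain ⟨y, rfl⟩ := σ.surjective v
  have h1 := rangeAll_spec (rangeAll_spec hg x.val (Nat.zero_le _) (by simpa using x.2)) y.val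
    (Nat.zero_le _) (by simpa using y.2)
  have h2 := bEq_iff h1
  rw [he x.val x.2, he y.val y.2] at h2
  simp only [Fin.eta] at h2
  rw [hσ, hσ, hσ, hσ] at h2
  have hi : ∀ w, σ⁻¹ (σ w) = w := fun w => σ.symm_apply_apply w
  simp only [Equiv.Perm.mul_apply, hi]
  rw [adj_iff, adj_iff, h2]

/-- The order of the automorphism group of the explicit graph. -/
theorem card_autS {α : Type*} [Fintype α] [DecidableEq α] (hα : Fintype.card α = 22)
    {B : Set (Finset α)} (hB : IsSteinerSystem 3 6 B) : Nat.card autS = 88704000 := by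
  obtain ⟨θ, hθ⟩ := exists_theta hα hB
  let ψ := ψG θ hθ
  have h1 : Nat.card (pointBlockGraph B ≃g pointBlockGraph B) = Nat.card (Γ₀ ≃g Γ₀) :=
    Nat.card_congr
      ⟨fun f => ψ.symm.trans (f.trans ψ), fun f => ψ.trans (f.trans ψ.symm),
        fun f => by ext x; simp, fun f => by ext x; simp⟩
  have h2 : Nat.card autS = Nat.card (Γ₀ ≃g Γ₀) :=
    Nat.card_congr
      ⟨toIso, fun f => ⟨f.toEquiv, fun a b => f.map_adj_iff⟩, fun g => by
        apply Subtype.ext; ext x; rfl, fun f => by ext x; rfl⟩
  rw [h2, ← h1]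
  exact Cfsg.Agent.Lib.HSGraph.Card.main hα hB

/-- A subgroup of the automorphisms of the explicit graph with the right order is `HH`. -/
theorem eq_HH_of_le {R : Subgroup (Equiv.Perm (Fin 100))} (hR : R ≤ autS) (hc : Nat.card R = 44352000)
    (hA : Nat.card autS = 88704000) : R = HH := by
  have e1 : R.subgroupOf autS ≃* R := Subgroup.subgroupOfEquivOfLe hR
  have e2 : HH.subgroupOf autS ≃* HH := Subgroup.subgroupOfEquivOfLe HH_le
  have c1 : Nat.card (R.subgroupOf autS) = 44352000 := (Nat.card_congr e1.toEquiv).trans hc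
  have c2 : Nat.card (HH.subgroupOf autS) = 44352000 :=
    (Nat.card_congr e2.toEquiv).trans hs_main.2
  have hs : IsSimpleGroup (HH.subgroupOf autS) := by
    have := hs_main.1
    exact e2.isSimpleGroup
  have h := eq_of_index_two (X := R.subgroupOf autS) (Y := HH.subgroupOf autS)
    (by rw [c1, hA]) (by rw [c1, c2]) hs (by rw [c2]; norm_num)
  exact (Subgroup.subgroupOf_inj.1 h) |> fun h' => by
    rwa [inf_eq_left.2 hR, inf_eq_left.2 HH_le] at h'

/-- **The group of the definitions is the group of the explicit graph.** -/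
theorem iso_HH {α : Type*} [Fintype α] [DecidableEq α] (hα : Fintype.card α = 22)
    {B : Set (Finset α)} (hB : IsSteinerSystem 3 6 B) : Nonempty (Spor.HS ≃* HH) := by
  obtain ⟨e0⟩ := iso_HS
  obtain ⟨σ, hσ⟩ := exists_sigma
  obtain ⟨a, ha, ra⟩ := hX 52 (le_refl _) (by norm_num)
  obtain ⟨b, hb, rb⟩ := hX 53 (by norm_num) (by norm_num)
  let ρ := rho hS
  -- the subgroup generated by the two tables
  let H₁ : Subgroup (Equiv.Perm (Fin 100)) := Subgroup.closure {a, b}
  have h1le : H₁ ≤ ρ.range := by
    rw [Subgroup.closure_le]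
    rintro x (rfl | rfl)
    · exact ha
    · exact hb
  have hge : 44352000 ≤ Nat.card H₁ := by
    apply HSo.card_ge
    intro g h1 h2
    have hg : g = 52 ∨ g = 53 := by omega
    rcases hg with rfl | rfl
    · exact ⟨a, Subgroup.subset_closure (by simp), ra⟩
    · exact ⟨b, Subgroup.subset_closure (by simp), rb⟩
  haveI hfin : Finite (Leech.Cert.FixG [Leech.CertLev.nU0, Leech.CertRefs.nX1]) :=
    Nat.finite_of_card_ne_zero (by rw [card_Fix_HS]; norm_num)
  have hle : Nat.card ρ.range ≤ 44352000 := by
    rw [← card_Fix_HS]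
    exact Nat.card_le_card_of_surjective _ ρ.rangeRestrict_surjective
  have hEq : H₁ = ρ.range := Subgroup.eq_of_le_of_card_ge h1le (hle.trans hge)
  have hcard : Nat.card ρ.range = 44352000 := by
    apply le_antisymm hle
    rw [← hEq]
    exact hge
  -- the bijection of the group to the range
  have hbij : Function.Bijective ρ.rangeRestrict := by
    rw [Nat.bijective_iff_surjective_and_card]
    exact ⟨ρ.rangeRestrict_surjective, by rw [hcard, card_Fix_HS]⟩
  let e1 : Leech.Cert.FixG [Leech.CertLev.nU0, Leech.CertRefs.nX1] ≃* ρ.range := MulEquiv.ofBijective _ hbij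
  -- conjugation
  let R : Subgroup (Equiv.Perm (Fin 100)) := ρ.range.map (MulAut.conj σ).toMonoidHom
  have e2 : ρ.range ≃* R := Subgroup.equivMapOfInjective _ _ (MulAut.conj σ).injective
  have hRle : R ≤ autS := by
    rw [Subgroup.map_le_iff_le_comap, ← hEq, Subgroup.closure_le]
    rintro x (rfl | rfl)
    · exact conj_mem_autS hσ chk52 ra
    · exact conj_mem_autS hσ chk53 rb
  have hRc : Nat.card R = 44352000 := (Nat.card_congr e2.symm.toEquiv).trans hcard
  have hRH := eq_HH_of_le hRle hRc (card_autS hα hB)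
  rw [hRH] at e2
  exact ⟨(e0.trans e1).trans e2⟩

end Cfsg.Agent.Lib.HSRec.Model
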